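/-
A nontrivial universal homeomorphism of rings has an elementary step over the base.
-/
import Groth.Agent.UnivHomeo.Criteria

set_option autoImplicit false
set_option backward.isDefEq.respectTransparency false
set_option backward.defeqAttrib.useBackward true

universe u
open CategoryTheory AlgebraicGeometry

namespace Groth.Agent.UnivHomeoStep

theorem exists_step {A B : Type u} [CommRing A] [CommRing B] [Algebra A B] (hns : ¬ Function.Surjective (algebraMap A B))
    (hU : FlatMor.IsUnivHomeo (Spec.map (CommRingCat.ofHom (algebraMap A B)))) {weak : Prop}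
    (h : weak ∨ ∀ x, Function.Surjective ((Spec.map (CommRingCat.ofHom (algebraMap A B))).residueFieldMap x)) :
    ∃ b : B, b ∉ (algebraMap A B).range ∧ UnivHomeo.Step weak (Set.range (algebraMap A B)) b := by
  classical
  obtain ⟨b₀, hb₀⟩ : ∃ b : B, b ∉ (algebraMap A B).range := by
    by_contra hc
    push_neg at hc
    exact hns fun b => hc b
  obtain ⟨l, hl, hE⟩ := UnivHomeo.chains_of_isUnivHomeo hU h {b₀}
  have hex : ∃ n : ℕ, ∃ hn : n < l.length, l.get ⟨n, hn⟩ ∉ (algebraMap A B).range := by
    by_contra hc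
    push_neg at hc
    have hle : Algebra.adjoin A {c : B | c ∈ l} ≤ ⊥ := Algebra.adjoin_le fun c hc' => by
      obtain ⟨i, rfl⟩ := List.get_of_mem hc'
      exact Algebra.mem_bot.2 (hc i.1 i.2)
    exact hb₀ (Algebra.mem_bot.1 (hle (hE (by simp))))
  obtain ⟨hn, hnr⟩ := Nat.find_spec hex
  refine ⟨_, hnr, ?_⟩
  refine UnivHomeo.Step.mono ?_ (hl ⟨_, hn⟩)
  intro x hx
  have hle : Algebra.adjoin A (UnivHomeo.Pre l ⟨_, hn⟩) ≤ ⊥ := Algebra.adjoin_le fun c ⟨j, hj, hc⟩ => by
    have := Nat.find_min hex (m := j.1) hj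
    push_neg at this
    exact hc ▸ Algebra.mem_bot.2 (this j.2)
  exact Algebra.mem_bot.1 (hle hx)

end Groth.Agent.UnivHomeoStep
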